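/-
The common setting for the subgroups of SL(3): absolutely irreducible, perfect, simple modulo scalars.
-/
import Cfsg.Agent.Lib.Geo.Roots

set_option autoImplicit false

namespace CfsgLib.Geo.SL3

open CfsgLib.Geo.Roots
open scoped commutatorElement

variable {F : Type*} [Field F]

/-- A perfect absolutely irreducible subgroup of SL(3) which is simple non-abelian modulo scalars. -/
structure IsCore (L : Subgroup (Matrix.GeneralLinearGroup (Fin 3) F)) : Prop where
  le : L ≤ Cfsg.Geo.specialLinear (Fin 3) F
  perfect : ⁅L, L⁆ = L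
  absIrred : Cfsg.Geo.ActsAbsolutelyIrreducibly (Cfsg.Geo.matrixSet L)
  simple : IsSimpleGroup (L ⧸ (Cfsg.Geo.scalars (Fin 3) F).subgroupOf L)
  nonabelian : ¬ IsMulCommutative (L ⧸ (Cfsg.Geo.scalars (Fin 3) F).subgroupOf L)

/-- No non-trivial transvection lies in the group. -/
def NoTransvection (L : Subgroup (Matrix.GeneralLinearGroup (Fin 3) F)) : Prop :=
  ∀ φ u : Fin 3 → F, Root L φ u → φ = 0 ∨ u = 0

theorem IsCore.of_residualCore {H P : Subgroup (Matrix.GeneralLinearGroup (Fin 3) F)}
    (h : Cfsg.Geo.IsResidualCore H P) : IsCore P where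
  le := by
    intro x hx
    rw [← h.perfect] at hx
    refine Subgroup.commutator_le.2 (fun a _ b _ => ?_) hx
    show Matrix.GeneralLinearGroup.det ⁅a, b⁆ = 1
    rw [map_commutatorElement, commutatorElement_eq_one_iff_mul_comm]
    exact mul_comm _ _
  perfect := h.perfect
  absIrred := h.absIrred
  simple := h.simple
  nonabelian := h.nonabelian

end CfsgLib.Geo.SL3
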