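/-
The upper and lower root groups of a subgroup of SL(2) are lines over a common subfield.
-/
import Cfsg.Agent.Lib.Geo.SLTwoGenerate
import Cfsg.Agent.Lib.Classical.Dickson.TwoTransvections
import Cfsg.Agent.Lib.Classical.Dickson.PlatonicIff

set_option autoImplicit false

namespace CfsgLib.Geo.SL3

open Matrix CfsgLib.Classical CfsgLib.Classical.Dickson CfsgLib.Geo.SLTwoGen
open scoped MatrixGroups

variable {F : Type*} [Field F]

theorem up_mul (a b : F) : up a * up b = up (a + b) := by
  apply Subtype.ext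
  show (!![1, a; 0, 1] : Matrix (Fin 2) (Fin 2) F) * !![1, b; 0, 1] = !![1, a + b; 0, 1]
  simp [add_comm]

theorem up_zero : up (0 : F) = 1 := by
  apply Subtype.ext
  ext i j
  fin_cases i <;> fin_cases j <;> simp [up]

theorem lo_zero : lo (0 : F) = 1 := by
  apply Subtype.ext
  ext i j
  fin_cases i <;> fin_cases j <;> simp [lo]

theorem up_inv (a : F) : (up a)⁻¹ = up (-a) := inv_eq_of_mul_eq_one_right (by rw [up_mul, add_neg_cancel, up_zero])

theorem lo_inv (a : F) : (lo a)⁻¹ = lo (-a) := inv_eq_of_mul_eq_one_right (by rw [lo_mul, add_neg_cancel, lo_zero])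

/-- The upper root group. -/
def upSet (K : Subgroup SL(2, F)) : AddSubgroup F where
  carrier := {x | up x ∈ K}
  zero_mem' := by show up (0 : F) ∈ K; rw [up_zero]; exact K.one_mem
  add_mem' := fun {x y} hx hy => by show up (x + y) ∈ K; rw [← up_mul]; exact K.mul_mem hx hy
  neg_mem' := fun {x} hx => by show up (-x) ∈ K; rw [← up_inv]; exact K.inv_mem hx

/-- The lower root group. -/
def loSet (K : Subgroup SL(2, F)) : AddSubgroup F where
  carrier := {x | lo x ∈ K}
  zero_mem' := by show lo (0 : F) ∈ K; rw [lo_zero]; exact K.one_mem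
  add_mem' := fun {x y} hx hy => by show lo (x + y) ∈ K; rw [← lo_mul]; exact K.mul_mem hx hy
  neg_mem' := fun {x} hx => by show lo (-x) ∈ K; rw [← lo_inv]; exact K.inv_mem hx

theorem mem_upSet {K : Subgroup SL(2, F)} {x : F} : x ∈ upSet K ↔ up x ∈ K := Iff.rfl

theorem mem_loSet {K : Subgroup SL(2, F)} {x : F} : x ∈ loSet K ↔ lo x ∈ K := Iff.rfl

/-- The Weyl element. -/
def wel : SL(2, F) := ⟨!![0, 1; -1, 0], by simp [Matrix.det_fin_two_of]⟩

theorem wel_up (x : F) : wel * up x * wel⁻¹ = lo (-x) := by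
  rw [mul_inv_eq_iff_eq_mul]
  apply Subtype.ext
  show (!![0, 1; -1, 0] : Matrix (Fin 2) (Fin 2) F) * !![1, x; 0, 1] = !![1, 0; -x, 1] * !![0, 1; -1, 0]
  simp

theorem wel_lo (x : F) : wel * lo x * wel⁻¹ = up (-x) := by
  rw [mul_inv_eq_iff_eq_mul]
  apply Subtype.ext
  show (!![0, 1; -1, 0] : Matrix (Fin 2) (Fin 2) F) * !![1, 0; x, 1] = !![1, -x; 0, 1] * !![0, 1; -1, 0]
  simp

/-- The group with the two root groups exchanged. -/
def swapped (K : Subgroup SL(2, F)) : Subgroup SL(2, F) := K.comap (MulAut.conj (wel : SL(2, F))).toMonoidHom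

theorem mem_upSet_swapped {K : Subgroup SL(2, F)} {x : F} : x ∈ upSet (swapped K) ↔ x ∈ loSet K := by
  rw [mem_upSet, swapped, Subgroup.mem_comap]
  show wel * up x * wel⁻¹ ∈ K ↔ _
  rw [wel_up, ← lo_inv, inv_mem_iff, mem_loSet]

theorem mem_loSet_swapped {K : Subgroup SL(2, F)} {x : F} : x ∈ loSet (swapped K) ↔ x ∈ upSet K := by
  rw [mem_loSet, swapped, Subgroup.mem_comap]
  show wel * lo x * wel⁻¹ ∈ K ↔ _
  rw [wel_lo, ← up_inv, inv_mem_iff, mem_upSet]

theorem upSet_swapped (K : Subgroup SL(2, F)) : upSet (swapped K) = loSet K :=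
  AddSubgroup.ext fun _ => mem_upSet_swapped

theorem loSet_swapped (K : Subgroup SL(2, F)) : loSet (swapped K) = upSet K :=
  AddSubgroup.ext fun _ => mem_loSet_swapped

/-- The multipliers of an additive subgroup. -/
def stab (A : AddSubgroup F) : Subring F where
  carrier := {c | ∀ x ∈ A, c * x ∈ A}
  mul_mem' := fun {c d} hc hd x hx => by rw [mul_assoc]; exact hc _ (hd x hx)
  one_mem' := fun x hx => by rwa [one_mul]
  add_mem' := fun {c d} hc hd x hx => by rw [add_mul]; exact A.add_mem (hc x hx) (hd x hx)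
  zero_mem' := fun x _ => by rw [zero_mul]; exact A.zero_mem
  neg_mem' := fun {c} hc x hx => by rw [neg_mul]; exact A.neg_mem (hc x hx)

theorem inv_mem_subring [Finite F] (R : Subring F) {x : F} (hx : x ∈ R) : x⁻¹ ∈ R := by
  classical
  haveI := Fintype.ofFinite F
  by_cases h0 : x = 0
  · rw [h0, _root_.inv_zero]; exact R.zero_mem
  · have h2 : 2 ≤ Fintype.card F := Fintype.one_lt_card
    have e : x⁻¹ = x ^ (Fintype.card F - 2) := by
      refine inv_eq_of_mul_eq_one_right ?_
      rw [← pow_succ', show Fintype.card F - 2 + 1 = Fintype.card F - 1 by omega]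
      exact FiniteField.pow_card_sub_one_eq_one x h0
    rw [e]
    exact R.pow_mem hx _

/-- A subring of a finite field as a subfield. -/
def toField [Finite F] (R : Subring F) : Subfield F :=
  { R with inv_mem' := fun _ hx => inv_mem_subring R hx }

theorem mem_toField [Finite F] {R : Subring F} {x : F} : x ∈ toField R ↔ x ∈ R := Iff.rfl

theorem card_stab_le [Finite F] {A : AddSubgroup F} {a : F} (ha : a ∈ A) (h0 : a ≠ 0) :
    Nat.card (toField (stab A)) ≤ Nat.card A :=
  Nat.card_le_card_of_injective (fun c => ⟨(c : F) * a, (mem_toField.1 c.2 : (c : F) ∈ stab A) a ha⟩)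
    fun c d h => Subtype.ext (mul_right_cancel₀ h0 (congrArg Subtype.val h))

/-- Two root elements with a non-exceptional product: the torus of the generated field. -/
theorem pair_odd [Fintype F] (h2 : (2 : F) ≠ 0) {K : Subgroup SL(2, F)} {a b : F} (ha : a ∈ upSet K)
    (hb : b ∈ loSet K) (ha0 : a ≠ 0) (hb0 : b ≠ 0) (hex : ¬ ((3 : F) = 0 ∧ (a * b) ^ 2 = -1)) :
    a * b ∈ stab (upSet K) := by
  classical
  let F' := Subfield.closure ({a * b} : Set F)
  let lam : F' := ⟨a * b, Subfield.subset_closure rfl⟩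
  have hgen : Subfield.closure ({lam} : Set F') = ⊤ := by
    refine eq_top_iff.2 fun x _ => ?_
    have h1 : (Subfield.closure ({lam} : Set F')).map F'.subtype = F' := by
      rw [RingHom.map_field_closure, Set.image_singleton]
      rfl
    obtain ⟨y, hy, hyx⟩ : (x : F) ∈ (Subfield.closure ({lam} : Set F')).map F'.subtype := h1.ge x.2
    rwa [← show y = x from Subtype.ext hyx]
  have h2' : (2 : F') ≠ 0 := fun h => h2 (by simpa [map_ofNat] using congrArg F'.subtype h)
  have hlam : lam ≠ 0 := fun h => mul_ne_zero ha0 hb0 (congrArg Subtype.val h)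
  let D : GL (Fin 2) F := Matrix.GeneralLinearGroup.mkOfDetNeZero !![1, 0; 0, b] (by simp [hb0])
  let φ : SL(2, F') →* SL(2, F) :=
    (slConj D).toMonoidHom.comp (Matrix.SpecialLinearGroup.map F'.subtype)
  rcases two_transvections h2' lam hlam hgen with ⟨htop, -⟩ | ⟨h9, hsq, -⟩
  swap
  · exfalso
    refine hex ⟨?_, by simpa [lam] using congrArg Subtype.val hsq⟩
    have h3 : ((9 : ℕ) : F') = 0 := by rw [← h9]; exact Nat.cast_card_eq_zero F'
    have h3' : ((3 : F') * 3) = 0 := by norm_num at h3 ⊢; exact h3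
    have : (3 : F') = 0 := by rcases mul_eq_zero.1 h3' with h | h <;> exact h
    simpa [map_ofNat] using congrArg F'.subtype this
  have hφ : ∀ g : SL(2, F'), (φ g : Matrix (Fin 2) (Fin 2) F) =
      !![(g.1 0 0 : F), (g.1 0 1 : F) / b; b * (g.1 1 0 : F), (g.1 1 1 : F)] := by
    intro g
    show ((D : Matrix (Fin 2) (Fin 2) F) * (Matrix.SpecialLinearGroup.map F'.subtype g).1 *
      ((D⁻¹ : GL (Fin 2) F) : Matrix (Fin 2) (Fin 2) F)) = _
    rw [eq_comm, Units.eq_mul_inv_iff_mul_eq]
    ext i j
    fin_cases i <;> fin_cases j <;>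
      simp [D, Matrix.mul_apply, Fin.sum_univ_two, Matrix.GeneralLinearGroup.mkOfDetNeZero, hb0] <;> ring
  have hall : ∀ g, φ g ∈ K := by
    have : K.comap φ = ⊤ := by
      refine top_le_iff.1 (htop.symm.trans_le ((Subgroup.closure_le _).2 ?_))
      rintro g (hg | hg) <;> rw [SetLike.mem_coe, Subgroup.mem_comap]
      · rw [show φ g = lo b from Subtype.ext (by rw [hφ, hg]; simp [lo])]
        exact hb
      · rw [show φ g = up a from Subtype.ext (by rw [hφ, hg]; simp [up, lam, hb0])]
        exact ha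
    exact fun g => Subgroup.mem_comap.1 (this.ge (Subgroup.mem_top g))
  have hsq : ∀ l : F', (l : F) ^ 2 ∈ stab (upSet K) := by
    intro l x hx
    by_cases hl : l = 0
    · simp [hl, (upSet K).zero_mem]
    let T : SL(2, F') := ⟨!![l, 0; 0, l⁻¹], by simp [Matrix.det_fin_two_of, hl]⟩
    have hl' : (l : F) ≠ 0 := fun h => hl (Subtype.ext h)
    have e : φ T * up x * (φ T)⁻¹ = up ((l : F) ^ 2 * x) := by
      rw [mul_inv_eq_iff_eq_mul]
      apply Subtype.ext
      rw [Matrix.SpecialLinearGroup.coe_mul, Matrix.SpecialLinearGroup.coe_mul, hφ]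
      show _ * !![1, x; 0, 1] = !![1, (l : F) ^ 2 * x; 0, 1] * _
      simp [T]
      field_simp
    rw [mem_upSet, ← e]
    exact K.mul_mem (K.mul_mem (hall T) hx) (K.inv_mem (hall T))
  have h4 : (4 : F) * (a * b) ∈ stab (upSet K) := by
    have e : (4 : F) * (a * b) = ((lam + 1 : F') : F) ^ 2 - ((lam - 1 : F') : F) ^ 2 := by
      simp [lam]; ring
    rw [e]
    exact (stab (upSet K)).sub_mem (hsq _) (hsq _)
  have h40 : (4 : F) ≠ 0 := by rw [show (4 : F) = 2 * 2 by norm_num]; exact mul_ne_zero h2 h2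
  have := (stab (upSet K)).mul_mem (inv_mem_subring _ (natCast_mem (stab (upSet K)) 4)) h4
  rwa [Nat.cast_ofNat, inv_mul_cancel_left₀ h40] at this

/-- All products lie in the multipliers of the upper root group. -/
theorem prod_odd [Fintype F] (h2 : (2 : F) ≠ 0) {K : Subgroup SL(2, F)} {x y : F} (hx : x ∈ upSet K)
    (hy : y ∈ loSet K)
    (hex : 3 < Nat.card (upSet K) ∨ 3 < Nat.card (loSet K) ∨ ¬ ((3 : F) = 0 ∧ (x * y) ^ 2 = -1)) :
    x * y ∈ stab (upSet K) := by
  classical
  by_cases hx0 : x = 0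
  · simp [hx0, (stab (upSet K)).zero_mem]
  by_cases hy0 : y = 0
  · simp [hy0, (stab (upSet K)).zero_mem]
  by_cases he : (3 : F) = 0 ∧ (x * y) ^ 2 = -1
  swap
  · exact pair_odd h2 hx hy hx0 hy0 he
  obtain ⟨h3, hxy⟩ := he
  have hm1 : ∀ u : F, u ^ 2 = -1 → u = x * y ∨ u = -(x * y) := fun u hu => by
    rcases mul_eq_zero.1 (show (u - x * y) * (u + x * y) = 0 by linear_combination hu - hxy) with h | h
    · exact Or.inl (sub_eq_zero.1 h)
    · exact Or.inr (eq_neg_of_add_eq_zero_left h)
  have avoid : ∀ (A : AddSubgroup F) (z : F), 3 < Nat.card A → ∃ w ∈ A, w ≠ 0 ∧ w ≠ z ∧ w ≠ -z := by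
    intro A z hA
    by_contra! hc
    have h1 : (A : Set F) ⊆ ({0, z, -z} : Finset F) := fun w hw => by
      rw [Finset.coe_insert, Finset.coe_insert, Finset.coe_singleton]
      by_cases a1 : w = 0
      · exact Or.inl a1
      by_cases a2 : w = z
      · exact Or.inr (Or.inl a2)
      exact Or.inr (Or.inr (hc w hw a1 a2))
    have h2 := Set.ncard_le_ncard h1
    rw [Set.ncard_coe_finset, ← Nat.card_coe_set_eq] at h2
    exact absurd ((hA.trans_le h2).trans_le Finset.card_le_three) (lt_irrefl _)
  rcases hex with hA | hB | h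
  · obtain ⟨w, hw, hw0, hwx, hwx'⟩ := avoid _ x hA
    have hne : ∀ u : F, u ≠ x → u ≠ -x → ¬ ((3 : F) = 0 ∧ (u * y) ^ 2 = -1) := fun u h1 h2 ⟨_, hu⟩ => by
      rcases hm1 _ hu with h | h
      · exact h1 (mul_right_cancel₀ hy0 h)
      · exact h2 (mul_right_cancel₀ hy0 (by rw [neg_mul]; exact h))
    have s0 : x + w ≠ 0 := fun h => hwx' (eq_neg_of_add_eq_zero_right h)
    have s1 : x + w ≠ x := fun h => hw0 (by linear_combination h)
    have s2 : x + w ≠ -x := fun h => hwx (by linear_combination h - x * h3)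
    have := (stab (upSet K)).sub_mem
      (pair_odd h2 ((upSet K).add_mem hx hw) hy s0 hy0 (hne _ s1 s2))
      (pair_odd h2 hw hy hw0 hy0 (hne _ hwx hwx'))
    rwa [← sub_mul, add_sub_cancel_right] at this
  · obtain ⟨w, hw, hw0, hwy, hwy'⟩ := avoid _ y hB
    have hne : ∀ u : F, u ≠ y → u ≠ -y → ¬ ((3 : F) = 0 ∧ (x * u) ^ 2 = -1) := fun u h1 h2 ⟨_, hu⟩ => by
      rcases hm1 _ hu with h | h
      · exact h1 (mul_left_cancel₀ hx0 h)
      · exact h2 (mul_left_cancel₀ hx0 (by rw [mul_neg]; exact h))
    have s0 : y + w ≠ 0 := fun h => hwy' (eq_neg_of_add_eq_zero_right h)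
    have s1 : y + w ≠ y := fun h => hw0 (by linear_combination h)
    have s2 : y + w ≠ -y := fun h => hwy (by linear_combination h - y * h3)
    have := (stab (upSet K)).sub_mem
      (pair_odd h2 hx ((loSet K).add_mem hy hw) hx0 s0 (hne _ s1 s2))
      (pair_odd h2 hx hw hx0 hw0 (hne _ hwy hwy'))
    rwa [← mul_sub, add_sub_cancel_right] at this
  · exact absurd ⟨h3, hxy⟩ h

/-- The centraliser is not abelian. -/
def NonabCent (w : Equiv.Perm (Fin 4)) : Prop :=
  ∃ s : Equiv.Perm (Fin 4), s * w = w * s ∧ ∃ t : Equiv.Perm (Fin 4), t * w = w * t ∧ s * t ≠ t * s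

instance : DecidablePred NonabCent := fun w =>
  inferInstanceAs (Decidable (∃ s : Equiv.Perm (Fin 4), s * w = w * s ∧
    ∃ t : Equiv.Perm (Fin 4), t * w = w * t ∧ s * t ≠ t * s))

theorem perm_four_check : ∀ u v : Equiv.Perm (Fin 4),
    (u * u = 1 ∧ v * v = 1 ∧ u ≠ 1 ∧ v ≠ 1 ∧ u ≠ v ∧ u * v = v * u) →
    (NonabCent u ∨ NonabCent v ∨ NonabCent (u * v)) := by
  decide +kernel

theorem perm_four_key (u v : Equiv.Perm (Fin 4)) (h1 : u * u = 1) (h2 : v * v = 1) (h3 : u ≠ 1) (h4 : v ≠ 1)
    (h5 : u ≠ v) (h6 : u * v = v * u) :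
    ∃ w, (w = u ∨ w = v ∨ w = u * v) ∧ ∃ s t : Equiv.Perm (Fin 4), s * w = w * s ∧ t * w = w * t ∧ s * t ≠ t * s := by
  rcases perm_four_check u v ⟨h1, h2, h3, h4, h5, h6⟩ with ⟨s, hs, t, ht, hn⟩ | ⟨s, hs, t, ht, hn⟩ | ⟨s, hs, t, ht, hn⟩
  exacts [⟨u, Or.inl rfl, s, t, hs, ht, hn⟩, ⟨v, Or.inr (Or.inl rfl), s, t, hs, ht, hn⟩,
    ⟨u * v, Or.inr (Or.inr rfl), s, t, hs, ht, hn⟩]

theorem mem_up_of_commute {z : SL(2, F)} {a : F} (ha : a ≠ 0) (h : Commute z (up a)) :
    z.1 1 0 = 0 ∧ z.1 0 0 = z.1 1 1 := by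
  have e00 := congrArg (fun M : SL(2, F) => M.1 0 0) h.eq
  have e01 := congrArg (fun M : SL(2, F) => M.1 0 1) h.eq
  simp only [Matrix.SpecialLinearGroup.coe_mul] at e00 e01
  simp [up, Matrix.mul_apply, Fin.sum_univ_two] at e00 e01
  refine ⟨e00.resolve_left ha, mul_left_cancel₀ ha ?_⟩
  linear_combination e01

theorem shape_even (h2 : (2 : F) = 0) (g : SL(2, F)) {c : F} (hc : c ≠ 0) (h : Commute g (up c)) :
    g = up (g.1 0 1) := by
  haveI : CharP F 2 := CharTwo.of_one_ne_zero_of_two_eq_zero one_ne_zero h2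
  haveI : Fact (Nat.Prime 2) := ⟨Nat.prime_two⟩
  obtain ⟨h10, h00⟩ := mem_up_of_commute hc h
  have hd := g.2
  rw [Matrix.det_fin_two, h10, mul_zero, sub_zero, ← h00, ← sq] at hd
  have h1 : g.1 0 0 = 1 := frobenius_inj F 2 (by rw [frobenius_def, frobenius_def, hd, one_pow])
  apply Subtype.ext
  ext i j
  fin_cases i <;> fin_cases j <;> simp [up, h1, h10, h00.symm]

/-- The upper root group as a subgroup. -/
def upHom (K : Subgroup SL(2, F)) : Multiplicative (upSet K) →* K where
  toFun x := ⟨up (Multiplicative.toAdd x : upSet K), (Multiplicative.toAdd x).2⟩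
  map_one' := Subtype.ext up_zero
  map_mul' x y := Subtype.ext (up_mul _ _).symm

theorem upHom_injective (K : Subgroup SL(2, F)) : Function.Injective (upHom K) := fun x y h => by
  have := congrArg (fun g : K => (g : SL(2, F)).1 0 1) h
  exact Multiplicative.toAdd.injective (Subtype.ext (by simpa [upHom, up] using this))

/-- In characteristic two a non-trivial upper root group is a Sylow subgroup. -/
theorem card_upSet_even [Finite F] (h2 : (2 : F) = 0) {K : Subgroup SL(2, F)} {a : F} (ha : a ∈ upSet K)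
    (ha0 : a ≠ 0) : Nat.card (upSet K) = 2 ^ (Nat.card K).factorization 2 := by
  classical
  haveI : Fact (Nat.Prime 2) := ⟨Nat.prime_two⟩
  haveI : CharP F 2 := CharTwo.of_one_ne_zero_of_two_eq_zero one_ne_zero h2
  have hP : IsPGroup 2 (upHom K).range := by
    intro g
    obtain ⟨x, hx⟩ := g.2
    refine ⟨1, Subtype.ext ?_⟩
    rw [pow_one, sq, Subgroup.coe_mul, ← hx, ← map_mul, show x * x = 1 from
      Multiplicative.toAdd.injective (Subtype.ext (CharTwo.add_self_eq_zero _)), map_one]
    rfl
  obtain ⟨S, hS⟩ := hP.exists_le_sylow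
  let A₀ : K := ⟨up a, ha⟩
  have hA₀ : A₀ ∈ (S : Subgroup K) := hS ⟨Multiplicative.ofAdd ⟨a, ha⟩, rfl⟩
  haveI : Nontrivial (S : Subgroup K) := by
    refine ⟨⟨A₀, hA₀⟩, 1, fun h => ha0 ?_⟩
    simpa [A₀, up] using congrArg (fun g : (S : Subgroup K) => ((g : K) : SL(2, F)).1 0 1) h
  haveI : Nontrivial (Subgroup.center (S : Subgroup K)) := S.2.center_nontrivial
  obtain ⟨⟨z, hz⟩, hz1⟩ := exists_ne (1 : Subgroup.center (S : Subgroup K))
  have hzc : ∀ s : (S : Subgroup K), Commute ((z : K) : SL(2, F)) ((s : K) : SL(2, F)) := fun s => by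
    have := Subgroup.mem_center_iff.1 hz s
    exact (congrArg (fun g : (S : Subgroup K) => ((g : K) : SL(2, F))) this).symm
  have hzup := shape_even h2 _ ha0 (hzc ⟨A₀, hA₀⟩)
  have hz01 : ((z : K) : SL(2, F)).1 0 1 ≠ 0 := fun h => hz1 (by
    rw [h, up_zero] at hzup
    exact Subtype.ext (Subtype.ext (Subtype.ext hzup)))
  have hSle : (S : Subgroup K) ≤ (upHom K).range := fun s hs => by
    have h := shape_even h2 ((s : K) : SL(2, F)) hz01 (hzup ▸ (hzc ⟨s, hs⟩).symm)
    have hmem : (s : SL(2, F)).1 0 1 ∈ upSet K := by rw [mem_upSet, ← h]; exact s.2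
    exact ⟨Multiplicative.ofAdd ⟨_, hmem⟩, Subtype.ext h.symm⟩
  rw [← Sylow.card_eq_multiplicity S, le_antisymm hSle hS,
    ← Nat.card_congr (MonoidHom.ofInjective (upHom_injective K)).toEquiv]
  exact (Nat.card_congr Multiplicative.toAdd).symm

/-- In characteristic two the upper root group is a Sylow subgroup and the products lie in a subfield. -/
theorem prod_even [Fintype F] (h2 : (2 : F) = 0) {K : Subgroup SL(2, F)} {b : F} (hb : b ∈ loSet K) (hb0 : b ≠ 0)
    (h4 : 4 ≤ Nat.card (upSet K)) :
    ∃ k : Subfield F, Nat.card (upSet K) = Nat.card k ∧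
      ∀ x ∈ upSet K, ∀ y ∈ loSet K, x * y ∈ k := by
  classical
  haveI : Fact (Nat.Prime 2) := ⟨Nat.prime_two⟩
  haveI : CharP F 2 := CharTwo.of_one_ne_zero_of_two_eq_zero one_ne_zero h2
  obtain ⟨a, ha, ha0⟩ : ∃ a ∈ upSet K, a ≠ 0 := by
    by_contra! hc
    rw [(AddSubgroup.eq_bot_iff_forall _).2 hc] at h4
    simp at h4
  set ψ := upHom K with hψdef
  have hψ : Function.Injective ψ := upHom_injective K
  have shape : ∀ (g : SL(2, F)) (c : F), c ≠ 0 → Commute g (up c) → g = up (g.1 0 1) := fun g c hc h =>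
    shape_even h2 g hc h
  have hcard := card_upSet_even h2 ha ha0
  -- the image in PSL
  set π := QuotientGroup.mk' (Subgroup.center SL(2, F)) with hπ
  have hπinj : Function.Injective π := by
    rw [injective_iff_map_eq_one]
    intro g hg
    rw [hπ, QuotientGroup.mk'_apply, QuotientGroup.eq_one_iff] at hg
    obtain ⟨h10, h00⟩ := mem_up_of_commute one_ne_zero
      ((Subgroup.mem_center_iff.1 hg (up 1)).symm : Commute g (up 1))
    have hgu := shape g 1 one_ne_zero ((Subgroup.mem_center_iff.1 hg (up 1)).symm)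
    have e11 := congrArg (fun M : SL(2, F) => M.1 1 1) (Subgroup.mem_center_iff.1 hg (lo 1))
    rw [hgu] at e11
    simp only [Matrix.SpecialLinearGroup.coe_mul] at e11
    simp [lo, up, Matrix.mul_apply, Fin.sum_univ_two] at e11
    rw [hgu, show g.1 0 1 = 0 from e11, up_zero]
  set H := K.map π with hH
  let e := K.equivMapOfInjective π hπinj
  have hHcard : Nat.card H = Nat.card K := (Nat.card_congr e.toEquiv).symm
  let ι : Multiplicative (upSet K) →* H := e.toMonoidHom.comp ψ
  have hι : Function.Injective ι := e.injective.comp hψ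
  have hιsq : ∀ x, ι x * ι x = 1 := fun x => by
    rw [← map_mul, show x * x = 1 from Multiplicative.toAdd.injective (Subtype.ext (CharTwo.add_self_eq_zero _)),
      map_one]
  have hA2 : 4 ≤ Nat.card (Multiplicative (upSet K)) := by rwa [Nat.card_congr Multiplicative.toAdd]
  have hcent : ∀ (c : F), c ≠ 0 → ∀ g g' : K, Commute (g : SL(2, F)) (up c) → Commute (g' : SL(2, F)) (up c) →
      Commute g g' := fun c hc g g' hg hg' => Subtype.ext (by
    show (g : SL(2, F)) * g' = (g' : SL(2, F)) * g
    rw [shape _ c hc hg, shape _ c hc hg', up_mul, up_mul, add_comm])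
  have hlb : ∀ c : F, c ≠ 0 → ¬ Commute (lo b) (up c) := fun c hc h => hb0 (by
    simpa [lo] using (mem_up_of_commute hc h).1)
  have htr : ∃ k : Subfield F, Nat.card (upSet K) = Nat.card k ∧
      ∀ g ∈ K, (g : Matrix (Fin 2) (Fin 2) F).trace ∈ k := by
    rcases subgroup_cases_conj 2 (q := Fintype.card F) rfl H with
      ⟨-, hC, -⟩ | ⟨-, x, hx⟩ | ⟨n, -, hn, -, ⟨δ⟩⟩ | ⟨⟨δ⟩⟩ | ⟨⟨δ⟩⟩ | ⟨⟨δ⟩⟩ | ⟨k, g, -, hc⟩
    · refine absurd ?_ hC
      have h : (⟨_, Subgroup.mem_map_of_mem π ha⟩ : H) ^ 2 = 1 := Subtype.ext (by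
        show π (up a) ^ 2 = 1
        rw [← map_pow, sq, up_mul, CharTwo.add_self_eq_zero, up_zero, map_one])
      have ho : orderOf (⟨_, Subgroup.mem_map_of_mem π ha⟩ : H) = 2 :=
        orderOf_eq_prime h fun h1 => ha0 (by
          have := hπinj ((congrArg Subtype.val h1).trans (map_one π).symm)
          simpa [up] using congrArg (fun M : SL(2, F) => M.1 0 1) this)
      have hd := orderOf_dvd_natCard (⟨_, Subgroup.mem_map_of_mem π ha⟩ : H)
      rw [ho] at hd
      exact hd
    · exfalso
      induction x using Projectivization.ind with | h v hv => ?_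
      have key : ∀ g ∈ K, ∃ c : F, (g : Matrix (Fin 2) (Fin 2) F) *ᵥ v = c • v := by
        intro g hg
        obtain ⟨c, hc⟩ := (Projectivization.mk_eq_mk_iff' F _ _ _ _).1 (hx _ (Subgroup.mem_map_of_mem π hg))
        exact ⟨c, hc.symm⟩
      obtain ⟨c, hc⟩ := key _ ha
      obtain ⟨d, hd⟩ := key _ hb
      have c0 := congrFun hc 0
      have c1 := congrFun hc 1
      have d1 := congrFun hd 1
      simp [up, Matrix.mulVec, dotProduct, Fin.sum_univ_two] at c0 c1
      simp [lo, Matrix.mulVec, dotProduct, Fin.sum_univ_two] at d1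
      have hv1 : v 1 = 0 := by
        by_contra h0
        have : c = 1 := mul_right_cancel₀ h0 (by rw [one_mul]; exact c1.symm)
        rw [this, one_mul, add_eq_left] at c0
        exact h0 ((mul_eq_zero.1 c0).resolve_left ha0)
      rw [hv1, mul_zero, add_zero] at d1
      exact hv (funext fun i => by fin_cases i <;> [exact (mul_eq_zero.1 d1).resolve_left hb0; exact hv1])
    · exfalso
      have hsub := Subgroup.card_subgroup_dvd_card (δ.toMonoidHom.comp ι).range
      rw [← Nat.card_congr (MonoidHom.ofInjective (δ.injective.comp hι : Function.Injective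
        (δ.toMonoidHom.comp ι))).toEquiv, DihedralGroup.nat_card, Nat.card_congr Multiplicative.toAdd, hcard] at hsub
      rw [hcard] at h4
      have hcop : Nat.Coprime (2 ^ (Nat.card K).factorization 2) n :=
        Nat.Coprime.pow_left _ ((Nat.Prime.coprime_iff_not_dvd Nat.prime_two).2 hn)
      have := Nat.le_of_dvd two_pos (hcop.dvd_of_dvd_mul_right hsub)
      omega
    · exfalso
      have key : ∀ u v : alternatingGroup (Fin 4), u * u = 1 → v * v = 1 → u * v = v * u := by decide +kernel
      refine hlb a ha0 ?_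
      have h1 := key (δ ⟨_, Subgroup.mem_map_of_mem π hb⟩) (δ ⟨_, Subgroup.mem_map_of_mem π ha⟩)
        (by rw [← map_mul, show (⟨_, Subgroup.mem_map_of_mem π hb⟩ * ⟨_, Subgroup.mem_map_of_mem π hb⟩ : H) = 1
          from Subtype.ext (by show π (lo b) * π (lo b) = 1; rw [← map_mul, lo_mul, CharTwo.add_self_eq_zero, lo_zero, map_one]), map_one])
        (by rw [← map_mul, show (⟨_, Subgroup.mem_map_of_mem π ha⟩ * ⟨_, Subgroup.mem_map_of_mem π ha⟩ : H) = 1
          from Subtype.ext (by show π (up a) * π (up a) = 1; rw [← map_mul, up_mul, CharTwo.add_self_eq_zero, up_zero, map_one]), map_one])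
      rw [← map_mul, ← map_mul] at h1
      have h2' := congrArg Subtype.val (δ.injective h1)
      exact hπinj (by rw [map_mul, map_mul]; exact h2')
    · exfalso
      -- two commuting involutions include one with a non-abelian centraliser
      have key := perm_four_key
      haveI : Nontrivial (Multiplicative (upSet K)) := Finite.one_lt_card_iff_nontrivial.1 (by omega)
      obtain ⟨x, hx⟩ := exists_ne (1 : Multiplicative (upSet K))
      obtain ⟨y, hy1, hyx⟩ : ∃ y, y ≠ 1 ∧ y ≠ x := by
        by_contra! hc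
        have : (Set.univ : Set (Multiplicative (upSet K))) ⊆ {1, x} := fun y _ => by
          by_cases h : y = 1
          · exact Or.inl h
          · exact Or.inr (hc y h)
        have := Set.ncard_le_ncard this
        rw [Set.ncard_univ] at this
        have := this.trans (Set.ncard_insert_le _ _)
        rw [Set.ncard_singleton] at this
        omega
      let θ : Multiplicative (upSet K) →* Equiv.Perm (Fin 4) := δ.toMonoidHom.comp ι
      have hθ : Function.Injective θ := δ.injective.comp hι
      have hsq : ∀ x, θ x * θ x = 1 := fun x => by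
        show δ (ι x) * δ (ι x) = 1
        rw [← map_mul, hιsq, map_one]
      obtain ⟨w, hw, s, t, hs, ht, hst⟩ := key (θ x) (θ y) (hsq x) (hsq y)
        (fun h => hx (hθ (h.trans (map_one θ).symm))) (fun h => hy1 (hθ (h.trans (map_one θ).symm)))
        (fun h => hyx (hθ h).symm) (by rw [← map_mul, mul_comm, map_mul])
      obtain ⟨z', hz', hzw⟩ : ∃ z', z' ≠ 1 ∧ θ z' = w := by
        rcases hw with rfl | rfl | rfl
        · exact ⟨x, hx, rfl⟩
        · exact ⟨y, hy1, rfl⟩
        · refine ⟨x * y, fun h => hyx ?_, map_mul θ x y⟩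
          apply hθ
          have h' : θ x * θ y = θ x * θ x := by rw [hsq, ← map_mul, h, map_one]
          exact mul_left_cancel h'
      obtain ⟨s', rfl⟩ := (e.trans δ).surjective s
      obtain ⟨t', rfl⟩ := (e.trans δ).surjective t
      have hc0 : ((Multiplicative.toAdd z' : upSet K) : F) ≠ 0 := fun h =>
        hz' (Multiplicative.toAdd.injective (Subtype.ext h))
      have back : ∀ g : K, (e.trans δ) g * θ z' = θ z' * (e.trans δ) g →
          Commute (g : SL(2, F)) (up ((Multiplicative.toAdd z' : upSet K) : F)) := fun g h => by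
        have h1 : (e.trans δ) (g * ψ z') = (e.trans δ) (ψ z' * g) := by rw [map_mul, map_mul]; exact h
        exact congrArg Subtype.val ((e.trans δ).injective h1)
      refine hst ?_
      rw [← map_mul, ← map_mul, (hcent _ hc0 s' t' (back s' (hzw ▸ hs)) (back t' (hzw ▸ ht))).eq]
    · -- A5
      have key : ∀ u : alternatingGroup (Fin 5), u * u = 1 ∨ u * u * u = 1 ∨ u * u * u * u * u = 1 := by decide +kernel
      have hK : Nat.card K = 60 := by rw [← hHcard, Nat.card_congr δ.toEquiv, natCard_alt_five]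
      have hrel : ∀ g ∈ K, (g : Matrix (Fin 2) (Fin 2) F).trace = 0 ∨ (g : Matrix (Fin 2) (Fin 2) F).trace = 1 ∨
          (g : Matrix (Fin 2) (Fin 2) F).trace * (g : Matrix (Fin 2) (Fin 2) F).trace =
            (g : Matrix (Fin 2) (Fin 2) F).trace + 1 := by
        intro g hg
        have hd : g.1 0 0 * g.1 1 1 - g.1 0 1 * g.1 1 0 = 1 := by rw [← Matrix.det_fin_two]; exact g.2
        rw [Matrix.trace_fin_two]
        have back : ∀ X : K, (e.trans δ) X = 1 → X = 1 := fun X h => (e.trans δ).injective (h.trans (map_one _).symm)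
        rcases key ((e.trans δ) ⟨g, hg⟩) with h | h | h
        all_goals
          simp only [← map_mul] at h
          have h' := congrArg (fun M : K => (M : SL(2, F)).1) (back _ h)
          have e00 := congrFun (congrFun h' 0) 0
          have e11 := congrFun (congrFun h' 1) 1
          have e01 := congrFun (congrFun h' 0) 1
          have e10 := congrFun (congrFun h' 1) 0
          simp [Matrix.mul_apply, Fin.sum_univ_two] at e00 e11 e01 e10
        · left
          have : (g.1 0 0 + g.1 1 1) ^ 2 = 0 := by linear_combination e00 + e11 + 2 * hd + 2 * h2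
          exact pow_eq_zero_iff two_ne_zero |>.1 (by linear_combination this)
        · rcases eq_or_ne (g.1 0 0 + g.1 1 1) 0 with h0 | h0
          · exact Or.inl h0
          · refine Or.inr (Or.inl ?_)
            have h3 : (g.1 0 0 + g.1 1 1) * ((g.1 0 0 + g.1 1 1) ^ 2 + 1) = 0 := by
              linear_combination e00 + e11 + 3 * (g.1 0 0 + g.1 1 1) * hd + (1 + 2 * (g.1 0 0 + g.1 1 1)) * h2
            have h4 := (mul_eq_zero.1 h3).resolve_left h0
            refine frobenius_inj F 2 ?_
            rw [frobenius_def, frobenius_def, one_pow]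
            linear_combination h4 - h2
        · rcases eq_or_ne (g.1 0 0 + g.1 1 1) 0 with h0 | h0
          · exact Or.inl h0
          · refine Or.inr (Or.inr ?_)
            set T := g.1 0 0 + g.1 1 1 with hT
            have h3 : T * (T ^ 4 + T ^ 2 + 1) = 0 := by
              linear_combination e00 + e11 + (5 * T ^ 3 - 5 * T * (g.1 0 0 * g.1 1 1 - g.1 0 1 * g.1 1 0 + 1)) * hd +
                (1 + 3 * T ^ 3 - 2 * T) * h2
            have h4 := (mul_eq_zero.1 h3).resolve_left h0
            refine frobenius_inj F 2 ?_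
            rw [frobenius_def, frobenius_def]
            linear_combination h4 - (T ^ 2 + T + 1) * h2
      by_cases hu : ∃ u : F, u * u = u + 1
      · obtain ⟨u, hu⟩ := hu
        refine ⟨fourField h2 hu, ?_, fun g hg => ?_⟩
        · have h60 : (60 : ℕ).factorization 2 = 2 := by
            rw [show (60 : ℕ) = 2 ^ 2 * 15 by norm_num, Nat.factorization_mul (by norm_num) (by norm_num),
              Finsupp.add_apply, Nat.Prime.factorization_pow Nat.prime_two,
              Nat.factorization_eq_zero_of_not_dvd (show ¬ 2 ∣ 15 by decide)]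
            simp
          rw [hcard, hK, h60]
          show 2 ^ 2 = Nat.card ({0, 1, u, u + 1} : Set F)
          have n1 : u ≠ 0 := fun h => one_ne_zero (α := F) (by linear_combination -hu + (u - 1) * h)
          have n2 : u ≠ 1 := fun h => one_ne_zero (α := F) (by linear_combination -hu + u * h)
          have n3 : u + 1 ≠ 0 := fun h => n2 (by linear_combination h - h2)
          have n4 : u + 1 ≠ 1 := fun h => n1 (by linear_combination h)
          have n5 : u + 1 ≠ u := fun h => one_ne_zero (α := F) (by linear_combination h)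
          rw [Nat.card_coe_set_eq, Set.ncard_insert_of_notMem, Set.ncard_insert_of_notMem, Set.ncard_pair n5.symm]
          all_goals simp [n1, n2, n3, n4, n1.symm, n2.symm, n3.symm, n4.symm]
        · show _ ∈ ({0, 1, u, u + 1} : Set F)
          rcases hrel g hg with h | h | h
          · exact Or.inl h
          · exact Or.inr (Or.inl h)
          · rcases mul_eq_zero.1 (show ((g : Matrix (Fin 2) (Fin 2) F).trace - u) *
              ((g : Matrix (Fin 2) (Fin 2) F).trace - (u + 1)) = 0 by
                linear_combination h + hu + (1 + u - (g : Matrix (Fin 2) (Fin 2) F).trace * u) * h2) with h' | h'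
            · exact Or.inr (Or.inr (Or.inl (sub_eq_zero.1 h')))
            · exact Or.inr (Or.inr (Or.inr (sub_eq_zero.1 h')))
      · exfalso
        push Not at hu
        -- every product is zero or one
        have hone : ∀ x ∈ upSet K, x ≠ 0 → x * b = 1 := fun x hx hx0 => by
          have htr : (up x * lo b : SL(2, F)).1.trace = x * b := by
            rw [Matrix.SpecialLinearGroup.coe_mul, Matrix.trace_fin_two]
            simp [up, lo, Matrix.mul_apply, Fin.sum_univ_two]
            linear_combination h2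
          rcases hrel _ (K.mul_mem hx hb) with h | h | h
          · exact absurd (htr ▸ h) (mul_ne_zero hx0 hb0)
          · exact htr ▸ h
          · exact absurd h (hu _)
        have h1 : (upSet K : Set F) ⊆ ({0, b⁻¹} : Finset F) := fun x hx => by
          by_cases hx0 : x = 0
          · simp [hx0]
          · simp [eq_inv_of_mul_eq_one_left (hone x hx hx0)]
        have := Set.ncard_le_ncard h1
        rw [Set.ncard_coe_finset, ← Nat.card_coe_set_eq] at this
        have := h4.trans (this.trans Finset.card_le_two)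
        omega
    · -- subfield
      rcases hc with hc | ⟨hne, -⟩
      swap
      · exact absurd rfl hne
      haveI : CharP k 2 := (k.subtype.charP_iff k.subtype.injective 2).2 inferInstance
      refine ⟨k, ?_, fun A hA => ?_⟩
      · have hcardH : Nat.card H = Nat.card k * (Nat.card k ^ 2 - 1) := by
          have h1 : Nat.card (H.map (pslConj g).toMonoidHom) = Nat.card H :=
            (Nat.card_congr (H.equivMapOfInjective _ (pslConj g).injective).toEquiv).symm
          rw [← h1, hc, pglImage_eq_pslImage k.subtype (fun a _ => isSquare_of_two_eq_zero (CharTwo.two_eq_zero) a)]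
          haveI := Fintype.ofFinite k
          rw [card_pslImage, Nat.card_eq_fintype_card (α := k), ← Two.card_SL_two (F := k)]
          refine (Nat.card_congr (Equiv.ofBijective _ ⟨?_, QuotientGroup.mk_surjective⟩)).symm
          intro A B hAB
          rcases eq_or_neg_of_mk hAB with h | h
          · exact h.symm
          · exact (h.trans (Subtype.ext (by ext i j; simp [CharTwo.neg_eq]))).symm
        obtain ⟨f, hf, hq⟩ := exists_card_eq_prime_pow (F := k) 2
        rw [hcard, ← hHcard, hcardH, Nat.card_eq_fintype_card, hq]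
        have hodd : ¬ 2 ∣ (2 ^ f) ^ 2 - 1 := by
          have h1 : 1 ≤ (2 ^ f) ^ 2 := Nat.one_le_pow _ _ (Nat.two_pow_pos f)
          have h2' : 2 ∣ (2 ^ f) ^ 2 := dvd_pow (dvd_pow_self 2 (by omega)) two_ne_zero
          omega
        have h0 : (2 ^ f) ^ 2 - 1 ≠ 0 := fun h => hodd (h ▸ dvd_zero 2)
        rw [Nat.factorization_mul (pow_ne_zero _ two_ne_zero) h0, Finsupp.add_apply,
          Nat.Prime.factorization_pow Nat.prime_two, Nat.factorization_eq_zero_of_not_dvd hodd]
        simp
      · have h1 : pslConj g (π A) ∈ pglImage k.subtype := hc ▸ ⟨_, Subgroup.mem_map_of_mem π hA, rfl⟩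
        obtain ⟨k', hk'⟩ := (mem_pglImage _).1 h1
        induction k' using ProjGenLinGroup.induction_on with | mk k' => ?_
        rw [toPGL_pslConj, hπ, QuotientGroup.mk'_apply, ProjectiveSpecialLinearGroup.toPGL_mk,
          ProjGenLinGroup.map_mk] at hk'
        have h4' : traceSq (g * SpecialLinearGroup.toGL A * g⁻¹) =
            traceSq (GeneralLinearGroup.map (n := Fin 2) k.subtype k') := by
          refine traceSq_congr ?_
          rw [map_mul, map_mul, map_inv]
          exact hk'.symm
        rw [traceSq_conj, traceSq_toGL] at h4'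
        have hmem : (A : Matrix (Fin 2) (Fin 2) F).trace ^ 2 ∈ k := by
          rw [h4', traceSq]
          have e : ((GeneralLinearGroup.map (n := Fin 2) k.subtype k' : GL (Fin 2) F) : Matrix (Fin 2) (Fin 2) F) =
              (k' : Matrix (Fin 2) (Fin 2) k).map k.subtype := rfl
          rw [e, Matrix.trace_fin_two, Matrix.det_fin_two]
          simp only [Matrix.map_apply, Subfield.coe_subtype]
          exact div_mem (pow_mem (add_mem (SetLike.coe_mem _) (SetLike.coe_mem _)) 2)
            (sub_mem (mul_mem (SetLike.coe_mem _) (SetLike.coe_mem _)) (mul_mem (SetLike.coe_mem _) (SetLike.coe_mem _)))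
        rw [mem_subfield_iff_pow] at hmem ⊢
        refine frobenius_inj F 2 ?_
        rw [frobenius_def, frobenius_def, ← pow_mul, mul_comm (Nat.card k), pow_mul]
        exact hmem
  obtain ⟨k, hk, hkt⟩ := htr
  refine ⟨k, hk, fun x hx y hy => ?_⟩
  have := hkt _ (K.mul_mem hx hy)
  rw [Matrix.SpecialLinearGroup.coe_mul, Matrix.trace_fin_two] at this
  simp [up, lo, Matrix.mul_apply, Fin.sum_univ_two] at this
  have e : x * y = 1 + x * y + 1 := by linear_combination -h2
  rw [e]
  convert this using 1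

/-- The root groups are lines over a common subfield. -/
theorem exists_field_line [Fintype F] {K : Subgroup SL(2, F)} {a b : F} (ha : a ∈ upSet K) (hb : b ∈ loSet K)
    (ha0 : a ≠ 0) (hb0 : b ≠ 0) (htwo : (2 : F) = 0 → 4 ≤ Nat.card (upSet K) ∨ 4 ≤ Nat.card (loSet K))
    (hthree : (3 : F) = 0 → 3 < Nat.card (upSet K) ∨ 3 < Nat.card (loSet K) ∨ (a * b) ^ 2 ≠ -1) :
    ∃ k : Subfield F, a * b ∈ k ∧ (∀ x, up x ∈ K ↔ x / a ∈ k) ∧ ∀ y, lo y ∈ K ↔ y / b ∈ k := by
  classical
  suffices H : ∃ k : Subfield F, Nat.card k ≤ Nat.card (upSet K) ∧ Nat.card k ≤ Nat.card (loSet K) ∧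
      ∀ x ∈ upSet K, ∀ y ∈ loSet K, x * y ∈ k by
    obtain ⟨k, hA, hB, hk⟩ := H
    have hab := hk a ha b hb
    have fA : ∀ x ∈ upSet K, x / a ∈ k := fun x hx => by
      have := k.div_mem (hk x hx b hb) hab
      rwa [mul_div_mul_right _ _ hb0] at this
    have fB : ∀ y ∈ loSet K, y / b ∈ k := fun y hy => by
      have := k.div_mem (hk a ha y hy) hab
      rwa [mul_div_mul_left _ _ ha0] at this
    have onto : ∀ (A : AddSubgroup F) (c : F), c ≠ 0 → (∀ x ∈ A, x / c ∈ k) → Nat.card k ≤ Nat.card A →
        ∀ x, x ∈ A ↔ x / c ∈ k := fun A c hc hf hle x => ⟨hf x, fun hx => by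
      have hinj : Function.Injective (fun x : A => (⟨(x : F) / c, hf x x.2⟩ : k)) := fun u v huv =>
        Subtype.ext ((div_left_inj' hc).1 (congrArg Subtype.val huv))
      obtain ⟨u, hu⟩ := (hinj.bijective_of_nat_card_le hle).2 ⟨x / c, hx⟩
      rw [← (div_left_inj' hc).1 (congrArg Subtype.val hu)]
      exact u.2⟩
    exact ⟨k, hab, onto _ a ha0 fA hA, onto _ b hb0 fB hB⟩
  by_cases h2 : (2 : F) = 0
  · have heq : Nat.card (loSet K) = Nat.card (upSet K) := by
      have hsw := card_upSet_even h2 (K := swapped K) (mem_upSet_swapped.2 hb) hb0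
      rw [upSet_swapped] at hsw
      have hc : Nat.card (swapped K) = Nat.card K := by
        conv_rhs => rw [← Subgroup.map_comap_eq_self_of_surjective
          (f := (MulAut.conj (wel : SL(2, F))).toMonoidHom) (MulAut.conj (wel : SL(2, F))).surjective K]
        exact Nat.card_congr (Subgroup.equivMapOfInjective _ _ (MulAut.conj (wel : SL(2, F))).injective).toEquiv
      rw [hsw, hc, card_upSet_even h2 ha ha0]
    obtain ⟨k, hk1, hk2⟩ := prod_even h2 hb hb0 ((htwo h2).elim id fun h => heq ▸ h)
    exact ⟨k, hk1.ge, heq ▸ hk1.ge, hk2⟩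
  · have hP : ∀ x ∈ upSet K, ∀ y ∈ loSet K, x * y ∈ stab (upSet K) ∧ x * y ∈ stab (loSet K) := by
      intro x hx y hy
      by_cases hbig : 3 < Nat.card (upSet K) ∨ 3 < Nat.card (loSet K)
      · refine ⟨prod_odd h2 hx hy (hbig.imp id Or.inl), ?_⟩
        have := prod_odd h2 (K := swapped K) (mem_upSet_swapped.2 hy) (mem_loSet_swapped.2 hx)
          (by rw [upSet_swapped, loSet_swapped]; tauto)
        rwa [upSet_swapped, mul_comm] at this
      push Not at hbig
      by_cases hex : (3 : F) = 0 ∧ (x * y) ^ 2 = -1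
      · exfalso
        rcases hthree hex.1 with h | h | h
        · omega
        · omega
        refine h ?_
        have small : ∀ (A : AddSubgroup F) (u v : F), Nat.card A ≤ 3 → u ∈ A → v ∈ A → u ≠ 0 → v ≠ 0 → v = u ∨ v = -u := by
          intro A u v hA hu hv hu0 hv0
          by_contra! hc
          have hnu : -u ≠ u := fun h => hu0 ((mul_eq_zero.1 (show (2 : F) * u = 0 by linear_combination -h)).resolve_left h2)
          have h1 : (({0, u, -u, v} : Finset F) : Set F) ⊆ A := by
            intro w hw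
            simp at hw
            rcases hw with rfl | rfl | rfl | rfl
            exacts [A.zero_mem, hu, A.neg_mem hu, hv]
          have h3 := Set.ncard_le_ncard h1
          rw [Set.ncard_coe_finset, ← Nat.card_coe_set_eq, Finset.card_insert_of_notMem (by simp [hu0, hu0.symm, hv0.symm]),
            Finset.card_insert_of_notMem (by simp [hnu.symm, hc.1.symm]), Finset.card_pair hc.2.symm] at h3
          exact absurd (h3.trans hA) (by norm_num)
        have hx0 : x ≠ 0 := fun h => one_ne_zero (α := F) (by linear_combination hex.2 - x * y ^ 2 * h)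
        have hy0 : y ≠ 0 := fun h => one_ne_zero (α := F) (by linear_combination hex.2 - x ^ 2 * y * h)
        rcases small _ x a hbig.1 hx ha hx0 ha0 with rfl | rfl <;>
          rcases small _ y b hbig.2 hy hb hy0 hb0 with rfl | rfl <;> linear_combination hex.2
      · refine ⟨prod_odd h2 hx hy (Or.inr (Or.inr hex)), ?_⟩
        have := prod_odd h2 (K := swapped K) (mem_upSet_swapped.2 hy) (mem_loSet_swapped.2 hx)
          (Or.inr (Or.inr (by rwa [mul_comm])))
        rwa [upSet_swapped, mul_comm] at this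
    let R : Subring F := stab (upSet K) ⊓ stab (loSet K)
    refine ⟨toField R, ?_, ?_, fun x hx y hy => mem_toField.2 ⟨(hP x hx y hy).1, (hP x hx y hy).2⟩⟩
    · exact (Nat.card_mono (Set.toFinite _) fun z hz => hz.1).trans (card_stab_le ha ha0)
    · exact (Nat.card_mono (Set.toFinite _) fun z hz => hz.2).trans (card_stab_le hb hb0)

end CfsgLib.Geo.SL3
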